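import Mathlib

/-!
# The algebra `R[T]/(T^d - u)` for a unit `u`
-/

set_option autoImplicit false

universe u

open Polynomial CategoryTheory

namespace Groth.Agent.CycTors

variable {R : Type u} [CommRing R]

/-- `T^d - u`. -/
noncomputable abbrev pol (d : ℕ) (u : R) : R[X] := X ^ d - C u

/-- The twisted cover algebra. -/
abbrev Alg (d : ℕ) (u : R) : Type u := AdjoinRoot (pol d u)

variable {d : ℕ}

theorem root_pow (u : R) : (AdjoinRoot.root (pol d u)) ^ d = AdjoinRoot.of (pol d u) u := by
  have := AdjoinRoot.eval₂_root (pol d u)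
  rwa [eval₂_sub, eval₂_X_pow, eval₂_C, sub_eq_zero] at this

theorem isUnit_root (hd : 0 < d) {u : R} (hu : IsUnit u) : IsUnit (AdjoinRoot.root (pol d u)) := by
  have := hu.map (AdjoinRoot.of (pol d u))
  rw [← root_pow] at this
  exact (isUnit_pow_iff hd.ne').1 this

theorem monic_pol (hd : 0 < d) (u : R) : (pol d u).Monic := monic_X_pow_sub_C u hd.ne'

theorem free_alg (hd : 0 < d) (u : R) : Module.Free R (Alg d u) :=
  Module.Free.of_basis (AdjoinRoot.powerBasis' (monic_pol hd u)).basis

theorem finite_alg (hd : 0 < d) (u : R) : Module.Finite R (Alg d u) :=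
  Module.Finite.of_basis (AdjoinRoot.powerBasis' (monic_pol hd u)).basis

theorem natDegree_pol [Nontrivial R] (u : R) : (pol d u).natDegree = d := natDegree_X_pow_sub_C

theorem exists_coords [Nontrivial R] (hd : 0 < d) (u : R) (x : Alg d u) :
    ∃ a : Fin d → R, x = ∑ i, AdjoinRoot.of (pol d u) (a i) * AdjoinRoot.root (pol d u) ^ (i : ℕ) := by
  let pb := AdjoinRoot.powerBasis' (monic_pol hd u)
  have hdim : pb.dim = d := natDegree_pol u
  refine ⟨fun i => pb.basis.repr x (Fin.cast hdim.symm i), ?_⟩
  conv_lhs => rw [← pb.basis.sum_repr x]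
  refine Fintype.sum_equiv (finCongr hdim) _ _ fun i => ?_
  rw [Algebra.smul_def, pb.basis_eq_pow]
  rfl

theorem coords_unique [Nontrivial R] (hd : 0 < d) (u : R) {a b : Fin d → R}
    (h : ∑ i, AdjoinRoot.of (pol d u) (a i) * AdjoinRoot.root (pol d u) ^ (i : ℕ) =
      ∑ i, AdjoinRoot.of (pol d u) (b i) * AdjoinRoot.root (pol d u) ^ (i : ℕ)) : a = b := by
  let pb := AdjoinRoot.powerBasis' (monic_pol hd u)
  have hdim : pb.dim = d := natDegree_pol u
  have key : ∀ c : Fin d → R, ∑ i, AdjoinRoot.of (pol d u) (c i) * AdjoinRoot.root (pol d u) ^ (i : ℕ) =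
      ∑ i : Fin pb.dim, c (Fin.cast hdim i) • pb.basis i := fun c => by
    refine (Fintype.sum_equiv (finCongr hdim) _ _ fun i => ?_).symm
    rw [Algebra.smul_def, pb.basis_eq_pow]
    rfl
  rw [key, key] at h
  have := Fintype.linearIndependent_iff.1 pb.basis.linearIndependent
    (fun i => a (Fin.cast hdim i) - b (Fin.cast hdim i))
    (by simp only [sub_smul, Finset.sum_sub_distrib, h, sub_self])
  exact funext fun i => sub_eq_zero.1 (this (Fin.cast hdim.symm i))

theorem rankAtStalk_alg [Nontrivial R] (hd : 0 < d) (u : R) (p : PrimeSpectrum R) :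
    Module.rankAtStalk (Alg d u) p = d := by
  haveI := free_alg hd u
  haveI := finite_alg hd u
  rw [Module.rankAtStalk_eq_finrank_of_free, Pi.natCast_apply]
  rw [(AdjoinRoot.powerBasis' (monic_pol hd u)).finrank]
  exact natDegree_pol u

theorem etale_alg (hd : 0 < d) {u : R} (hu : IsUnit u) (hdu : IsUnit (d : R)) : Algebra.Etale R (Alg d u) := by
  obtain ⟨v, hv⟩ := hu.exists_left_inv
  obtain ⟨w, hw⟩ := hdu.exists_left_inv
  let P : StandardEtalePair R :=
    { f := pol d u
      monic_f := monic_pol hd u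
      g := 1
      cond := by
        refine ⟨C (v * w) * X, -C v, 1, ?_⟩
        rw [pow_one, derivative_sub, derivative_X_pow, derivative_C, sub_zero]
        have h1 : X ^ (d - 1) * X = (X ^ d : R[X]) := by rw [← pow_succ, Nat.sub_add_cancel hd]
        have h2 : C v * C u = (1 : R[X]) := by rw [← map_mul, hv, map_one]
        have h3 : C w * C (d : R) = (1 : R[X]) := by rw [← map_mul, hw, map_one]
        rw [map_mul]
        linear_combination (C w * C (d : R) * C v) * h1 + (C v * X ^ d) * h3 + h2 }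
  have h : IsUnit (AdjoinRoot.mk P.f P.g) := by rw [show P.g = 1 from rfl, map_one]; exact isUnit_one
  exact Algebra.Etale.of_equiv (P.equivAwayAdjoinRoot.trans
    ((IsLocalization.atUnit _ (Localization.Away (AdjoinRoot.mk P.f P.g)) (AdjoinRoot.mk P.f P.g) h).symm.restrictScalars R))

/-- The transition map `T ↦ g T`. -/
noncomputable def transition {S : Type u} [CommRing S] (f : R →+* S) (u : R) (v g : S) (h : f u = g ^ d * v) :
    Alg d u →+* Alg d v :=
  AdjoinRoot.lift ((AdjoinRoot.of (pol d v)).comp f) (AdjoinRoot.of (pol d v) g * AdjoinRoot.root (pol d v)) (by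
    rw [eval₂_sub, eval₂_X_pow, eval₂_C, RingHom.comp_apply, h, map_mul, mul_pow, map_pow, root_pow, sub_self])

@[simp]
theorem transition_of {S : Type u} [CommRing S] (f : R →+* S) (u : R) (v g : S) (h : f u = g ^ d * v) (r : R) :
    transition f u v g h (AdjoinRoot.of (pol d u) r) = AdjoinRoot.of (pol d v) (f r) := AdjoinRoot.lift_of _

@[simp]
theorem transition_root {S : Type u} [CommRing S] (f : R →+* S) (u : R) (v g : S) (h : f u = g ^ d * v) :
    transition f u v g h (AdjoinRoot.root (pol d u)) = AdjoinRoot.of (pol d v) g * AdjoinRoot.root (pol d v) :=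
  AdjoinRoot.lift_root _

theorem alg_hom_ext {u : R} {C : Type*} [CommRing C] {a b : Alg d u →+* C}
    (h1 : ∀ r, a (AdjoinRoot.of (pol d u) r) = b (AdjoinRoot.of (pol d u) r))
    (h2 : a (AdjoinRoot.root (pol d u)) = b (AdjoinRoot.root (pol d u))) : a = b := by
  refine RingHom.ext fun x => ?_
  induction x using AdjoinRoot.induction_on with
  | ih p =>
    induction p using Polynomial.induction_on' with
    | add p q hp hq => rw [map_add, map_add, map_add, hp, hq]
    | monomial n c =>
      rw [← C_mul_X_pow_eq_monomial, map_mul, map_pow, AdjoinRoot.mk_C, AdjoinRoot.mk_X, map_mul,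
        map_mul, map_pow, map_pow, h1, h2]

theorem isPushout_transition {S : Type u} [CommRing S] (f : R →+* S) (u : R) (v g : S) (h : f u = g ^ d * v)
    (hg : IsUnit g) :
    IsPushout (CommRingCat.ofHom f) (CommRingCat.ofHom (AdjoinRoot.of (pol d u)))
      (CommRingCat.ofHom (AdjoinRoot.of (pol d v))) (CommRingCat.ofHom (transition f u v g h)) := by
  obtain ⟨gi, hgi⟩ := hg.exists_left_inv
  refine ⟨⟨CommRingCat.hom_ext (RingHom.ext fun r => (transition_of f u v g h r).symm)⟩, ⟨?_⟩⟩
  refine Limits.PushoutCocone.IsColimit.mk _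
    (fun s => CommRingCat.ofHom (AdjoinRoot.lift s.inl.hom (s.inl.hom gi * s.inr.hom (AdjoinRoot.root (pol d u))) ?_))
    (fun s => ?_) (fun s => ?_) (fun s m h1 h2 => ?_)
  · have hc : ∀ r, s.inl.hom (f r) = s.inr.hom (AdjoinRoot.of (pol d u) r) := fun r => congr($(s.condition) r)
    rw [eval₂_sub, eval₂_X_pow, eval₂_C, sub_eq_zero, mul_pow, ← map_pow, ← map_pow, root_pow, ← hc, h,
      ← map_mul, ← mul_assoc, ← mul_pow, hgi, one_pow, one_mul]
  · refine CommRingCat.hom_ext (RingHom.ext fun r => ?_)
    simp only [CommRingCat.hom_comp, CommRingCat.hom_ofHom, RingHom.comp_apply, AdjoinRoot.lift_of]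
  · refine CommRingCat.hom_ext (alg_hom_ext (fun r => ?_) ?_)
    · simp only [CommRingCat.hom_comp, CommRingCat.hom_ofHom, RingHom.comp_apply, transition_of, AdjoinRoot.lift_of]
      exact congr($(s.condition) r)
    · simp only [CommRingCat.hom_comp, CommRingCat.hom_ofHom, RingHom.comp_apply, transition_root, map_mul,
        AdjoinRoot.lift_of, AdjoinRoot.lift_root]
      rw [← mul_assoc, ← map_mul, mul_comm g gi, hgi, map_one, one_mul]
  · refine CommRingCat.hom_ext (alg_hom_ext (fun r => ?_) ?_)
    · rw [CommRingCat.hom_ofHom, AdjoinRoot.lift_of]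
      exact congr($h1 r)
    · have h3 : m.hom (transition f u v g h (AdjoinRoot.root (pol d u))) = s.inr.hom (AdjoinRoot.root (pol d u)) :=
        congr($h2 (AdjoinRoot.root (pol d u)))
      have h4 : m.hom (AdjoinRoot.of (pol d v) gi) = s.inl.hom gi := congr($h1 gi)
      rw [transition_root] at h3
      rw [CommRingCat.hom_ofHom, AdjoinRoot.lift_root, ← h3, ← h4, ← map_mul, ← mul_assoc, ← map_mul, hgi,
        map_one, one_mul]

end Groth.Agent.CycTors
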