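import Groth.Agent.CycTors.Alg
import Groth.Agent.PicTorsThick
import Groth.Agent.InvX.GenLocusPull
import Groth.Agent.RelSpecX.Gamma
import Groth.Prelude.Def_Mor2
import Mathlib.AlgebraicGeometry.RelativeGluing
import Mathlib.AlgebraicGeometry.Morphisms.FlatRank

/-!
# The cyclic cover attached to a trivialisation of a power of an invertible module
-/

set_option autoImplicit false
set_option backward.isDefEq.respectTransparency false
set_option backward.isDefEq.respectTransparency.types false
set_option linter.style.haveILetI false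

universe u

open CategoryTheory CategoryTheory.Limits AlgebraicGeometry TopologicalSpace Opposite
open Groth.Agent.AModX Groth.Agent.InvX Groth.Agent.PicTorsThick

namespace Groth.Agent.CycTors

noncomputable section

/-- A trivialisation of the `d`-th power of an invertible module. -/
structure Datum (X : Scheme.{u}) where
  L : X.Modules
  inv : PicF.IsInvertible L
  d : ℕ
  pos : 0 < d
  φ : CohB1.tensorPow L d ≅ Coh.structureModule X

variable {X : Scheme.{u}} (D : Datum X)

namespace Datum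

/-- Affine opens with a frame. -/
structure Ix : Type u where
  U : X.Opens
  aff : IsAffineOpen U
  has : ∃ e : Γ(D.L, U), IsFrame e

instance : Preorder D.Ix where
  le a b := a.U ≤ b.U
  le_refl a := le_refl a.U
  le_trans a b c := le_trans (b := b.U)

theorem exists_ix {x : X} {V : X.Opens} (hx : x ∈ V) : ∃ a : D.Ix, x ∈ a.U ∧ a.U ≤ V := by
  obtain ⟨W, hxW, e, he⟩ := InvX.exists_frame D.inv x
  obtain ⟨U, hU, hxU, hle⟩ := exists_isAffineOpen_mem_and_subset (x := x) (U := W ⊓ V) ⟨hxW, hx⟩
  exact ⟨⟨U, hU, res D.L (fun _ hy => (hle hy).1) e, he.res _⟩, hxU, fun _ hy => (hle hy).2⟩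

/-- The cover. -/
def cover : X.OpenCover where
  I₀ := D.Ix
  X a := a.U
  f a := a.U.ι
  mem₀ := by
    rw [Scheme.presieve₀_mem_precoverage_iff]
    refine ⟨fun x => ?_, inferInstance⟩
    obtain ⟨a, ha, -⟩ := D.exists_ix (V := ⊤) (x := x) trivial
    exact ⟨a, ⟨x, ha⟩, rfl⟩

instance : Preorder D.cover.I₀ := inferInstanceAs (Preorder D.Ix)

instance : D.cover.LocallyDirected :=
  .ofIsBasisOpensRange (fun {i j} => by
      show i.U ≤ j.U ↔ i.U.ι.opensRange ≤ j.U.ι.opensRange
      rw [Scheme.Opens.opensRange_ι, Scheme.Opens.opensRange_ι]) (by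
    rw [Opens.isBasis_iff_nbhd]
    intro V x hx
    obtain ⟨a, hxa, haV⟩ := D.exists_ix hx
    refine ⟨a.U, ⟨a, ?_⟩, hxa, haV⟩
    show a.U.ι.opensRange = a.U
    exact a.U.opensRange_ι)

theorem trans_eq {a b : D.cover.I₀} (h : a ⟶ b) : D.cover.trans h = X.homOfLE (leOfHom h : a.U ≤ b.U) := by
  rw [← cancel_mono (D.cover.f b), Scheme.Cover.trans_map]
  exact (Scheme.homOfLE_ι X _).symm

variable {D}

/-- The chosen frame. -/
def e (a : D.Ix) : Γ(D.L, a.U) := a.has.choose

theorem isFrame_e (a : D.Ix) : IsFrame (e a) := a.has.choose_spec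

/-- The image of the frame. -/
def u (a : D.Ix) : Γ(X, a.U) := D.φ.hom.app a.U (powElt (e a) D.d)

theorem isUnit_u (a : D.Ix) : IsUnit (u a) := by
  have h := (isFrame_powElt (isFrame_e a) D.d).map_iso D.φ
  obtain ⟨c, hc⟩ := h.exists_coord le_rfl (show Γ(Coh.structureModule X, a.U) from (1 : Γ(X, a.U)))
  rw [res_self] at hc
  exact IsUnit.of_mul_eq_one_right c hc.symm

/-- The transition function. -/
def g {a b : D.Ix} (h : a ≤ b) : Γ(X, a.U) := ((isFrame_e a).exists_coord le_rfl (res D.L h (e b))).choose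

theorem g_spec {a b : D.Ix} (h : a ≤ b) : res D.L h (e b) = g h • e a := by
  have := ((isFrame_e a).exists_coord le_rfl (res D.L h (e b))).choose_spec
  exact this.trans (congrArg _ (res_self _))

theorem g_unique {a b : D.Ix} (h : a ≤ b) {c : Γ(X, a.U)} (hc : res D.L h (e b) = c • e a) : g h = c := by
  refine (isFrame_e a).coord_unique le_rfl ?_
  rw [res_self, ← g_spec h, hc]

theorem g_self (a : D.Ix) (h : a ≤ a) : g h = 1 := g_unique h (by rw [one_smul]; exact res_self _)

theorem g_comp {a b c : D.Ix} (h : a ≤ b) (h' : b ≤ c) : g (h.trans h') = resR h (g h') * g h :=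
  g_unique _ (by rw [← res_res h' h, g_spec h', res_smul, g_spec h, mul_smul])

theorem isUnit_g {a b : D.Ix} (h : a ≤ b) : IsUnit (g h) := by
  obtain ⟨c, hc⟩ := (isFrame_e b).exists_coord h (e a)
  refine IsUnit.of_mul_eq_one c ((isFrame_e a).coord_unique le_rfl ?_)
  rw [res_self, one_smul, mul_comm, mul_smul, ← g_spec h]
  exact hc.symm

theorem res_u {a b : D.Ix} (h : a ≤ b) : resR h (u b) = g h ^ D.d * u a := by
  show res (Coh.structureModule X) h (D.φ.hom.app b.U (powElt (e b) D.d)) = _
  rw [← app_res, res_powElt, g_spec h, powElt_smul, Scheme.Modules.Hom.app_smul]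
  rfl

/-- The algebra over a member. -/
abbrev B (a : D.Ix) : CommRingCat.{u} := CommRingCat.of (Alg D.d (u a))

/-- Its structure map. -/
abbrev str (a : D.Ix) : Γ(X, a.U) ⟶ B a := CommRingCat.ofHom (AdjoinRoot.of (pol D.d (u a)))

/-- Restriction of the algebras. -/
def ρ {a b : D.Ix} (h : a ≤ b) : B b ⟶ B a :=
  CommRingCat.ofHom (transition (resR h) (u b) (u a) (g h) (res_u h))

theorem str_ρ {a b : D.Ix} (h : a ≤ b) : str b ≫ ρ h = X.presheaf.map (homOfLE h).op ≫ str a :=
  CommRingCat.hom_ext (RingHom.ext fun r => transition_of (resR h) (u b) (u a) (g h) (res_u h) r)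

theorem ρ_self (a : D.Ix) (h : a ≤ a) : ρ h = 𝟙 (B a) := by
  refine CommRingCat.hom_ext (alg_hom_ext (fun r => ?_) ?_)
  · refine (transition_of (resR h) (u a) (u a) (g h) (res_u h) r).trans ?_
    rw [resR_self]; rfl
  · refine (transition_root (resR h) (u a) (u a) (g h) (res_u h)).trans ?_
    rw [g_self, map_one, one_mul]; rfl

theorem ρ_comp {a b c : D.Ix} (h : a ≤ b) (h' : b ≤ c) : ρ (h.trans h') = ρ h' ≫ ρ h := by
  refine CommRingCat.hom_ext (alg_hom_ext (fun r => ?_) ?_)
  · simp only [ρ, CommRingCat.hom_comp, CommRingCat.hom_ofHom, RingHom.comp_apply, transition_of, resR_resR]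
  · simp only [ρ, CommRingCat.hom_comp, CommRingCat.hom_ofHom, RingHom.comp_apply, transition_root, transition_of,
      map_mul, g_comp h h', mul_assoc]

variable (D)

/-- The charts as a functor. -/
def chartFunctor : D.cover.I₀ ⥤ Scheme.{u} where
  obj a := Spec (B a)
  map {a b} h := Spec.map (ρ (leOfHom h))
  map_id a := by rw [ρ_self, Spec.map_id]
  map_comp {a b c} h h' := by rw [← Spec.map_comp, ← ρ_comp]

/-- The structure maps of the charts. -/
def chartTo (a : D.Ix) : Spec (B a) ⟶ (a.U : Scheme.{u}) := Spec.map (str a) ≫ a.aff.isoSpec.inv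

theorem chartTo_ι (a : D.Ix) : D.chartTo a ≫ a.U.ι = Spec.map (str a) ≫ a.aff.fromSpec := by
  rw [chartTo, Category.assoc]; rfl

theorem isoSpec_inv_homOfLE {a b : D.Ix} (h : a ≤ b) :
    Spec.map (X.presheaf.map (homOfLE h).op) ≫ b.aff.isoSpec.inv = a.aff.isoSpec.inv ≫ X.homOfLE h := by
  rw [← cancel_mono b.U.ι, Category.assoc, Category.assoc, Scheme.homOfLE_ι]
  exact b.aff.map_fromSpec a.aff (homOfLE h).op

theorem chartTo_naturality {a b : D.Ix} (h : a ≤ b) :
    Spec.map (ρ h) ≫ D.chartTo b = D.chartTo a ≫ X.homOfLE h := by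
  rw [chartTo, ← Category.assoc, ← Spec.map_comp, str_ρ, Spec.map_comp, Category.assoc,
    isoSpec_inv_homOfLE, ← Category.assoc]
  rfl

theorem isPullback_chart {a b : D.Ix} (h : a ≤ b) :
    IsPullback (Spec.map (ρ h)) (D.chartTo a) (D.chartTo b) (X.homOfLE h) := by
  refine (isPullback_SpecMap_of_isPushout _ _ _ _
    (isPushout_transition (resR h) (u b) (u a) (g h) (res_u h) (isUnit_g h))).flip.paste_vert ?_
  exact IsPullback.of_vert_isIso ⟨isoSpec_inv_homOfLE D h⟩

/-- The gluing datum. -/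
def gd : D.cover.RelativeGluingData where
  functor := D.chartFunctor
  natTrans :=
    { app := fun a => D.chartTo a
      naturality := fun {a b} h => by
        show Spec.map (ρ (leOfHom h)) ≫ D.chartTo b = D.chartTo a ≫ D.cover.trans h
        rw [trans_eq]
        exact chartTo_naturality D _ }
  equifibered := fun {a b} h => by
    show IsPullback (Spec.map (ρ (leOfHom h))) (D.chartTo a) (D.chartTo b) (D.cover.trans h)
    rw [trans_eq]
    exact isPullback_chart D _

instance : (D.gd.functor ⋙ Scheme.forget).IsLocallyDirected :=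
  Scheme.Cover.RelativeGluingData.instIsLocallyDirectedI₀CompFunctorForgetOfIsThin ..

/-- The cyclic cover. -/
abbrev tot : Scheme.{u} := D.gd.glued

/-- Its projection. -/
abbrev π : D.tot ⟶ X := D.gd.toBase

/-- The charts. -/
def ι (a : D.Ix) : Spec (B a) ⟶ D.tot := D.gd.cover.f a

instance (a : D.Ix) : IsOpenImmersion (D.ι a) := D.gd.cover.map_prop a

theorem ι_π (a : D.Ix) : D.ι a ≫ D.π = Spec.map (str a) ≫ a.aff.fromSpec :=
  (D.gd.ι_toBase a).trans (D.chartTo_ι a)

theorem π_preimage (a : D.Ix) : D.π ⁻¹ᵁ a.U = (D.ι a).opensRange := by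
  have := D.gd.toBase_preimage_eq_opensRange_ι a
  rwa [show (D.cover.f a).opensRange = a.U from a.U.opensRange_ι] at this

theorem ι_res {a b : D.Ix} (h : a ≤ b) : Spec.map (ρ h) ≫ D.ι b = D.ι a :=
  colimit.w D.gd.functor (homOfLE h : (a : D.cover.I₀) ⟶ b)

theorem isPullback_ι (a : D.Ix) : IsPullback (D.ι a) (D.chartTo a) D.π a.U.ι :=
  (D.gd.isPullback_natTrans_ι_toBase a).flip

theorem of_chart (P : MorphismProperty Scheme.{u}) [IsZariskiLocalAtTarget P]
    (h : ∀ a, P (Spec.map (str (D := D) a))) : P D.π := by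
  refine IsZariskiLocalAtTarget.of_openCover D.cover fun a => ?_
  have h1 : P (D.chartTo a) := (P.cancel_right_of_respectsIso _ _).2 (h a)
  rw [← (D.isPullback_ι a).isoPullback_hom_snd] at h1
  exact (P.cancel_left_of_respectsIso _ _).1 h1

theorem isFinite_π : IsFinite D.π := D.of_chart @IsFinite fun a => by
  rw [IsFinite.SpecMap_iff]
  haveI := finite_alg D.pos (u a)
  exact RingHom.finite_algebraMap.2 this

theorem flat_π : Flat D.π := D.of_chart @Flat fun a => by
  rw [Flat.SpecMap_iff]
  haveI := free_alg D.pos (u a)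
  exact RingHom.flat_algebraMap_iff.2 inferInstance

theorem locallyOfFinitePresentation_π : LocallyOfFinitePresentation D.π :=
  D.of_chart @LocallyOfFinitePresentation fun a => by
    rw [LocallyOfFinitePresentation.SpecMap_iff]
    haveI := free_alg D.pos (u a)
    haveI := finite_alg D.pos (u a)
    haveI : Module.FinitePresentation Γ(X, a.U) (Alg D.d (u a)) := Module.finitePresentation_of_projective _ _
    exact RingHom.finitePresentation_algebraMap.2 (Algebra.FinitePresentation.of_finitePresentation _ _)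

theorem finrank_π (y : X) : D.π.finrank y = D.d := by
  haveI := D.isFinite_π
  haveI := D.flat_π
  obtain ⟨a, hya, -⟩ := D.exists_ix (V := ⊤) (x := y) trivial
  have h1 : D.π.finrank y = (D.chartTo a).finrank ⟨y, hya⟩ :=
    (Scheme.Hom.finrank_of_isPullback _ _ _ _ (D.isPullback_ι a) ⟨y, hya⟩).symm
  haveI : Flat (D.chartTo a) := MorphismProperty.of_isPullback (P := @Flat) (D.isPullback_ι a) D.flat_π
  haveI : IsFinite (D.chartTo a) := MorphismProperty.of_isPullback (P := @IsFinite) (D.isPullback_ι a) D.isFinite_π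
  have h2 : IsPullback (𝟙 (Spec (B a))) (Spec.map (str a)) (D.chartTo a) a.aff.isoSpec.inv :=
    IsPullback.of_horiz_isIso ⟨(Category.id_comp _)⟩
  obtain ⟨p, hp⟩ : ∃ p, a.aff.isoSpec.inv p = ⟨y, hya⟩ :=
    ⟨a.aff.isoSpec.hom ⟨y, hya⟩, Scheme.hom_inv_apply a.aff.isoSpec ⟨y, hya⟩⟩
  rw [h1, ← hp, ← Scheme.Hom.finrank_of_isPullback _ _ _ _ h2 p]
  haveI := free_alg D.pos (u a)
  haveI := finite_alg D.pos (u a)
  haveI : Nontrivial Γ(X, a.U) := (X.presheaf.germ a.U y hya).hom.domain_nontrivial
  refine (Scheme.Hom.finrank_SpecMap_algebraMap Γ(X, a.U) (Alg D.d (u a)) p).trans ?_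
  exact rankAtStalk_alg D.pos _ p

theorem isFinLocFreeOfDeg : Mor2.IsFinLocFreeOfDeg D.d D.π :=
  ⟨⟨D.isFinite_π, D.flat_π, D.locallyOfFinitePresentation_π⟩, D.finrank_π⟩

theorem etale_π (hd : IsUnit ((D.d : ℕ) : Γ(X, ⊤))) : Etale D.π := D.of_chart @Etale fun a => by
  rw [HasRingHomProperty.Spec_iff (P := @Etale)]
  refine RingHom.etale_algebraMap.2 (etale_alg D.pos (isUnit_u a) ?_)
  have := hd.map (resR (le_top : a.U ≤ ⊤))
  rwa [map_natCast] at this

end Datum

end

end Groth.Agent.CycTors
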