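import Groth.Agent.CycTors.Cover
import Groth.Agent.H23.GeomConnGamma

/-!
# The cyclic cover trivialises the module and is connected
-/

set_option autoImplicit false
set_option backward.isDefEq.respectTransparency false
set_option backward.isDefEq.respectTransparency.types false
set_option linter.style.haveILetI false

universe u

open CategoryTheory CategoryTheory.Limits AlgebraicGeometry TopologicalSpace Opposite
open Groth.Agent.AModX Groth.Agent.InvX Groth.Agent.PicTorsThick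

namespace Groth.Agent.CycTors.Datum

noncomputable section

variable {X : Scheme.{u}} (D : Datum X)

theorem top_le (a : D.Ix) : (⊤ : (Spec (B a)).Opens) ≤ D.ι a ⁻¹ᵁ (D.π ⁻¹ᵁ a.U) := by
  rw [π_preimage]
  rintro x -
  exact ⟨x, rfl⟩

/-- Sections over a chart. -/
def sec (a : D.Ix) : Γ(D.tot, D.π ⁻¹ᵁ a.U) ⟶ B a :=
  (D.ι a).appLE (D.π ⁻¹ᵁ a.U) ⊤ (D.top_le a) ≫ (Scheme.ΓSpecIso (B a)).hom

instance isIso_sec (a : D.Ix) : IsIso (D.sec a) := by
  haveI : IsIso ((D.ι a).appLE (D.π ⁻¹ᵁ a.U) ⊤ (D.top_le a)) :=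
    RelSpecX.isIso_appLE_of_le_range _ _ _ (D.π_preimage a).le (le_antisymm (D.top_le a) le_top)
  exact inferInstanceAs (IsIso (_ ≫ _))

theorem sec_bijective (a : D.Ix) : Function.Bijective (D.sec a) :=
  (ConcreteCategory.isIso_iff_bijective _).1 inferInstance

theorem sec_natural {a b : D.Ix} (h : a ≤ b) :
    D.tot.presheaf.map (homOfLE (D.π.preimage_mono h)).op ≫ D.sec a = D.sec b ≫ ρ h := by
  simp only [sec, Category.assoc, ← Scheme.ΓSpecIso_naturality]
  simp only [← Category.assoc]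
  congr 1
  simp only [Scheme.Hom.appTop, Scheme.Hom.appLE, Category.assoc]
  have h1 := (Scheme.Hom.comp_app (Spec.map (ρ h)) (D.ι b) (D.π ⁻¹ᵁ b.U)).symm
  rw [Scheme.Hom.naturality_assoc, Scheme.Hom.naturality, reassoc_of% h1,
    Scheme.Hom.congr_app (D.ι_res h), Category.assoc, ← Functor.map_comp, ← Functor.map_comp]
  rfl

theorem sec_res {a b : D.Ix} (h : a ≤ b) (x : Γ(D.tot, D.π ⁻¹ᵁ b.U)) :
    D.sec a (resR (D.π.preimage_mono h) x) = ρ h (D.sec b x) :=
  congr($(D.sec_natural h) x)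

theorem str_sec (a : D.Ix) : D.π.app a.U ≫ D.sec a = str a := by
  have h1 := Scheme.Hom.congr_app (D.ι_π a) a.U
  have h2 := (Scheme.Hom.comp_app (D.ι a) D.π a.U).symm
  have hk : ∀ k : (op ⊤ : (Spec (B a)).Opensᵒᵖ) ⟶ op ⊤, (Spec (B a)).presheaf.map k = 𝟙 _ := fun k => by
    rw [Subsingleton.elim k (𝟙 _)]; exact CategoryTheory.Functor.map_id _ _
  simp only [sec, Scheme.Hom.appLE, Category.assoc]
  rw [reassoc_of% h2, h1, Scheme.Hom.comp_app, a.aff.fromSpec_app_self]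
  simp only [Category.assoc]
  rw [Scheme.Hom.naturality_assoc]
  simp only [← Functor.map_comp_assoc]
  erw [hk, Category.id_comp]
  rw [← cancel_epi (Scheme.ΓSpecIso Γ(X, a.U)).hom, Iso.hom_inv_id_assoc]
  erw [Scheme.ΓSpecIso_naturality]

theorem sec_app (a : D.Ix) (r : Γ(X, a.U)) : D.sec a (D.π.app a.U r) = AdjoinRoot.of (pol D.d (u a)) r :=
  congr($(D.str_sec a) r)

/-- The root over a chart. -/
def t (a : D.Ix) : Γ(D.tot, D.π ⁻¹ᵁ a.U) := ((D.sec_bijective a).2 (AdjoinRoot.root (pol D.d (u a)))).choose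

theorem sec_t (a : D.Ix) : D.sec a (D.t a) = AdjoinRoot.root (pol D.d (u a)) :=
  ((D.sec_bijective a).2 (AdjoinRoot.root (pol D.d (u a)))).choose_spec

theorem t_res {a b : D.Ix} (h : a ≤ b) :
    resR (D.π.preimage_mono h) (D.t b) = D.π.app a.U (g h) * D.t a := by
  apply (D.sec_bijective a).1
  rw [sec_res, map_mul, sec_app, sec_t, sec_t]
  exact transition_root (resR h) (u b) (u a) (g h) (res_u h)

theorem isUnit_t (a : D.Ix) : IsUnit (D.t a) := by
  obtain ⟨c, hc⟩ := (isUnit_root D.pos (isUnit_u a)).exists_left_inv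
  obtain ⟨c', rfl⟩ := (D.sec_bijective a).2 c
  refine IsUnit.of_mul_eq_one_right c' ((D.sec_bijective a).1 ?_)
  rw [map_mul, map_one, sec_t]
  exact hc

theorem cover_tot (z : D.tot) : ∃ a : D.Ix, z ∈ D.π ⁻¹ᵁ a.U := by
  obtain ⟨a, ha, -⟩ := D.exists_ix (V := ⊤) (x := D.π z) trivial
  exact ⟨a, ha⟩

theorem nonempty_pullback_iso : Nonempty ((Scheme.Modules.pullback D.π).obj D.L ≅ Coh.structureModule D.tot) := by
  refine nonempty_iso_of_transition (fun a : D.Ix => D.π ⁻¹ᵁ a.U) D.cover_tot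
    (fun a => pullElt D.π (e a)) (fun a => isFrame_pullElt _ (isFrame_e a))
    (fun a => show Γ(Coh.structureModule D.tot, D.π ⁻¹ᵁ a.U) from D.t a)
    (fun a => by
      have := (isFrame_one (X := D.tot) (D.π ⁻¹ᵁ a.U)).isUnit_smul (D.isUnit_t a)
      exact (congrArg (fun r : Γ(D.tot, D.π ⁻¹ᵁ a.U) =>
        IsFrame (show Γ(Coh.structureModule D.tot, D.π ⁻¹ᵁ a.U) from r)) (mul_one (D.t a))).mp this) fun a b => ?_
  obtain ⟨c, hc⟩ := (isFrame_e b).exists_coord (inf_le_right : a.U ⊓ b.U ≤ b.U) (res D.L inf_le_left (e a))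
  refine ⟨D.π.app _ c, ?_, ?_⟩
  · have h1 := congrArg (pullElt D.π) hc
    rw [pullElt_smul, ← res_pullElt, ← res_pullElt] at h1
    exact h1
  · show resR (D.π.preimage_mono (inf_le_left : a.U ⊓ b.U ≤ a.U)) (D.t a) =
      D.π.app (a.U ⊓ b.U) c * resR (D.π.preimage_mono (inf_le_right : a.U ⊓ b.U ≤ b.U)) (D.t b)
    refine eq_of_locally (M := Coh.structureModule D.tot) _ _ fun z hz => ?_
    obtain ⟨v, hzv, hv⟩ := D.exists_ix (V := a.U ⊓ b.U) (x := D.π z) hz
    have hva : v ≤ a := fun y hy => (hv hy).1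
    have hvb : v ≤ b := fun y hy => (hv hy).2
    refine ⟨D.π ⁻¹ᵁ v.U, D.π.preimage_mono hv, hzv, ?_⟩
    show resR (D.π.preimage_mono hv) (resR (D.π.preimage_mono (inf_le_left : a.U ⊓ b.U ≤ a.U)) (D.t a)) =
      resR (D.π.preimage_mono hv) (D.π.app (a.U ⊓ b.U) c * resR (D.π.preimage_mono (inf_le_right : a.U ⊓ b.U ≤ b.U)) (D.t b))
    rw [map_mul, resR_resR, resR_resR, D.t_res hva, D.t_res hvb, ← app_resR D.π hv, ← mul_assoc, ← map_mul]
    refine congrArg (fun r => D.π.app v.U r * D.t v) (g_unique hva ?_)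
    rw [mul_smul, ← g_spec hvb, ← res_res inf_le_left hv, hc, res_smul, res_res]

theorem isUnit_of_glue (hfield : IsField (Γ(X, ⊤) : Type u)) (c : ∀ a : D.Ix, Γ(X, a.U))
    (hc : ∀ {a b : D.Ix} (h : a ≤ b), resR h (c b) = c a) (a₀ : D.Ix) (h0 : c a₀ ≠ 0) : ∀ a, IsUnit (c a) := by
  obtain ⟨w, hw, -⟩ := existsUnique_glue (M := Coh.structureModule X) (V := ⊤) (fun a : D.Ix => a.U) (fun _ => le_top)
    (fun p _ => (D.exists_ix (V := ⊤) (x := p) trivial).imp fun _ h => h.1) c fun a b =>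
      eq_of_locally (M := Coh.structureModule X) _ _ fun p hp => by
        obtain ⟨v, hpv, hv⟩ := D.exists_ix (V := a.U ⊓ b.U) hp
        refine ⟨v.U, hv, hpv, ?_⟩
        show resR _ (resR _ (c a)) = resR _ (resR _ (c b))
        rw [resR_resR, resR_resR, hc (fun y hy => (hv hy).1 : v.U ≤ a.U), hc (fun y hy => (hv hy).2 : v.U ≤ b.U)]
  have hw' : ∀ a : D.Ix, resR (le_top : a.U ≤ ⊤) (show Γ(X, ⊤) from w) = c a := hw
  have hne : (show Γ(X, ⊤) from w) ≠ 0 := fun h => h0 (by rw [← hw', h, map_zero])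
  obtain ⟨w', hw''⟩ := hfield.mul_inv_cancel hne
  exact fun a => hw' a ▸ (IsUnit.of_mul_eq_one w' hw'').map _

variable [IsIntegral X]

theorem connectedSpace (hfield : IsField (Γ(X, ⊤) : Type u))
    (hmin : ∀ i : ℕ, 0 < i → i < D.d → IsEmpty (CohB1.tensorPow D.L i ≅ Coh.structureModule X)) :
    ConnectedSpace D.tot := by
  classical
  have hnt : ∀ a : D.Ix, ∀ x ∈ a.U, Nontrivial Γ(X, a.U) := fun a x hx => (X.presheaf.germ a.U x hx).hom.domain_nontrivial
  obtain ⟨a₀, hx₀, -⟩ := D.exists_ix (V := ⊤) (x := genericPoint X) trivial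
  haveI := hnt a₀ _ hx₀
  have hone : (1 : B a₀) ≠ 0 := by
    intro h
    have h2 := coords_unique D.pos (u a₀) (a := fun i : Fin D.d => if (i : ℕ) = 0 then 1 else 0) (b := 0) (by
      rw [Finset.sum_eq_single ⟨0, D.pos⟩] <;> simp_all [Fin.ext_iff])
    exact one_ne_zero (α := Γ(X, a₀.U)) (by simpa using congrFun h2 ⟨0, D.pos⟩)
  haveI : Nontrivial Γ(D.tot, ⊤) := by
    haveI : Nontrivial (B a₀) := nontrivial_of_ne _ _ hone
    exact ((D.tot.presheaf.map (homOfLE (le_top : D.π ⁻¹ᵁ a₀.U ≤ ⊤)).op ≫ D.sec a₀).hom).domain_nontrivial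
  refine H23.GeomConnGamma.connectedSpace_of_idem fun ε hε => ?_
  have hall : ∀ a : D.Ix, ∃ c : Fin D.d → Γ(X, a.U), D.sec a (resR (le_top : D.π ⁻¹ᵁ a.U ≤ ⊤) ε) =
      ∑ i, AdjoinRoot.of (pol D.d (u a)) (c i) * AdjoinRoot.root (pol D.d (u a)) ^ (i : ℕ) := by
    intro a
    rcases subsingleton_or_nontrivial Γ(X, a.U) with h | h
    · refine ⟨0, ?_⟩
      have : Subsingleton (B a) := by
        refine subsingleton_of_zero_eq_one ?_
        rw [← map_one (AdjoinRoot.of (pol D.d (u a))), Subsingleton.elim (1 : Γ(X, a.U)) 0, map_zero]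
      exact Subsingleton.elim _ _
    · exact exists_coords D.pos (u a) _
  choose c hc using hall
  have hcomp : ∀ {a b : D.Ix} (h : a ≤ b) (i : Fin D.d), resR h (c b i) * g h ^ (i : ℕ) = c a i := by
    intro a b h i
    rcases subsingleton_or_nontrivial Γ(X, a.U) with hs | hs
    · exact Subsingleton.elim _ _
    refine congrFun (coords_unique D.pos (u a) (a := fun i => resR h (c b i) * g h ^ (i : ℕ)) (b := c a) ?_) i
    have h1 := congrArg (ρ h) (hc b)
    rw [← sec_res, resR_resR, hc a] at h1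
    rw [h1, map_sum]
    refine Finset.sum_congr rfl fun j _ => ?_
    show _ = transition (resR h) (u b) (u a) (g h) (res_u h) _
    simp only [map_mul, map_pow, transition_of, transition_root, mul_pow, mul_assoc]
  have hred : ∀ (a : D.Ix) (x : Γ(X, a.U)) (n : ℕ), 0 < n → x ^ n = 0 → x = 0 := fun a x n hn hx =>
    eq_zero_of_pow_eq_zero hx
  have hzero : ∀ (i : Fin D.d), (i : ℕ) ≠ 0 → ∀ a, c a i = 0 := by
    intro i hi a
    by_contra hne
    let C : ∀ a : D.Ix, Γ(X, a.U) := fun a => c a i ^ D.d * u a ^ (i : ℕ)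
    have hC : ∀ {a b : D.Ix} (h : a ≤ b), resR h (C b) = C a := fun {a b} h => by
      simp only [C, map_mul, map_pow, res_u h, ← hcomp h i, mul_pow, ← pow_mul, mul_comm D.d (i : ℕ)]
      ring
    have h0 : C a ≠ 0 := fun h => hne (hred a _ D.d D.pos ((IsUnit.mul_left_eq_zero ((isUnit_u a).pow _)).1 h))
    have hu := D.isUnit_of_glue hfield C hC a h0
    have hu' : ∀ b, IsUnit (c b i) := fun b => (isUnit_pow_iff D.pos.ne').1 (isUnit_of_mul_isUnit_left (hu b))
    refine (hmin i (Nat.pos_of_ne_zero hi) i.2).false ?_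
    refine (nonempty_iso_of_transition (M := CohB1.tensorPow D.L i) (fun a : D.Ix => a.U)
      (fun p => (D.exists_ix (V := ⊤) (x := p) trivial).imp fun _ h => h.1)
      (fun b => c b i • powElt (e b) i) (fun b => (isFrame_powElt (isFrame_e b) _).isUnit_smul (hu' b))
      (fun b => show Γ(Coh.structureModule X, b.U) from (1 : Γ(X, b.U))) (fun b => isFrame_one _)
      fun p q => ⟨1, ?_, ?_⟩).some
    · rw [one_smul]
      refine eq_of_locally _ _ fun x hx => ?_
      obtain ⟨v, hxv, hv⟩ := D.exists_ix (V := p.U ⊓ q.U) hx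
      have hvp : v ≤ p := fun y hy => (hv hy).1
      have hvq : v ≤ q := fun y hy => (hv hy).2
      refine ⟨v.U, hv, hxv, ?_⟩
      rw [res_res, res_res, res_smul, res_smul, res_powElt, res_powElt, g_spec hvp, g_spec hvq, powElt_smul,
        powElt_smul, ← mul_smul, ← mul_smul, hcomp hvp i, hcomp hvq i]
    · rw [one_smul]
      show resR _ (1 : Γ(X, p.U)) = resR _ (1 : Γ(X, q.U))
      rw [map_one, map_one]
  let i₀ : Fin D.d := ⟨0, D.pos⟩
  have hsec : ∀ a, D.sec a (resR (le_top : D.π ⁻¹ᵁ a.U ≤ ⊤) ε) = AdjoinRoot.of (pol D.d (u a)) (c a i₀) := fun a => by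
    rw [hc a, Finset.sum_eq_single i₀ (fun i _ hi => by
      rw [hzero i (fun h => hi (Fin.ext h)) a, map_zero, zero_mul]) (fun h => absurd (Finset.mem_univ _) h)]
    simp [i₀]
  have h01 : (∀ a, c a i₀ = 0) ∨ ∀ a, IsUnit (c a i₀) := by
    by_cases h : ∀ a, c a i₀ = 0
    · exact Or.inl h
    · push_neg at h
      obtain ⟨a, ha⟩ := h
      exact Or.inr (D.isUnit_of_glue hfield (fun b => c b i₀) (fun {a b} h => by
        have := hcomp h i₀
        simpa [i₀] using this) a ha)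
  have hext : ∀ y : Γ(D.tot, ⊤),
      (∀ a, D.sec a (resR (le_top : D.π ⁻¹ᵁ a.U ≤ ⊤) ε) = D.sec a (resR le_top y)) → ε = y := fun y hy =>
    eq_of_locally (M := Coh.structureModule D.tot) _ _ fun z _ => by
      obtain ⟨a, ha⟩ := D.cover_tot z
      exact ⟨D.π ⁻¹ᵁ a.U, le_top, ha, (D.sec_bijective a).1 (hy a)⟩
  rcases h01 with h | h
  · exact Or.inl (hext 0 fun a => by rw [hsec, h, map_zero, map_zero, map_zero])
  · refine Or.inr (hext 1 fun a => ?_)
    have h1 : IsUnit (D.sec a (resR (le_top : D.π ⁻¹ᵁ a.U ≤ ⊤) ε)) := by rw [hsec]; exact (h a).map _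
    rw [map_one, map_one]
    exact (IsIdempotentElem.iff_eq_one_of_isUnit h1).1 ((hε.map (resR (le_top : D.π ⁻¹ᵁ a.U ≤ ⊤))).map (D.sec a).hom)

end

end Groth.Agent.CycTors.Datum
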